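import Mathlib
import Groth.Prelude.Def_Wider

set_option autoImplicit false
universe u v w

open CategoryTheory

namespace Groth.Agent.Lib.Helper5.PTRes

section mkind
variable {V : Type w} [Category.{v} V] [Limits.HasZeroMorphisms V]

/-- (after helper4's `chain_mk'_ind`) -/
theorem chain_mk'_ind (X₀ X₁ : V) (d₀ : X₁ ⟶ X₀)
    (succ' : ∀ {X₀ X₁ : V} (f : X₁ ⟶ X₀), Σ' (X₂ : V) (d : X₂ ⟶ X₁), d ≫ f = 0)
    (Pr : ∀ {A B C : V}, (A ⟶ B) → (B ⟶ C) → Prop)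
    (h : ∀ {A B : V} (f : A ⟶ B), Pr (succ' f).2.1 f) (n : ℕ) :
    Pr ((ChainComplex.mk' X₀ X₁ d₀ succ').d (n+1+1) (n+1))
      ((ChainComplex.mk' X₀ X₁ d₀ succ').d (n+1) n) := by
  simp only [ChainComplex.mk', ChainComplex.mk, ChainComplex.of_d]
  match n with
  | 0 => exact h _
  | n+1 => exact h _

theorem chain_mk'_X_ind (X₀ X₁ : V) (d₀ : X₁ ⟶ X₀)
    (succ' : ∀ {X₀ X₁ : V} (f : X₁ ⟶ X₀), Σ' (X₂ : V) (d : X₂ ⟶ X₁), d ≫ f = 0)
    (Pr : V → Prop) (h0 : Pr X₀) (h1 : Pr X₁)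
    (h : ∀ {A B : V} (f : A ⟶ B), Pr (succ' f).1) (n : ℕ) :
    Pr ((ChainComplex.mk' X₀ X₁ d₀ succ').X n) := by
  obtain (_ | _ | _ | n) := n
  · exact h0
  · exact h1
  · exact h _
  · exact h _

end mkind

section qi
variable {R : Type u} [CommRing R]

theorem chain_quasiIsoAt_succ_iff (N' : ChainComplex (ModuleCat.{u} R) ℕ) (N : ModuleCat.{u} R)
    (ε : N' ⟶ (ChainComplex.single₀ _).obj N) (n : ℕ) :
    QuasiIsoAt ε (n+1) ↔
      Function.Exact (N'.d (n+2) (n+1)).hom (N'.d (n+1) n).hom := by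
  rw [quasiIsoAt_iff_exactAt']
  · rw [HomologicalComplex.exactAt_iff' _ (n + 1 + 1) (n + 1) n (by simp) (by simp)]
    rw [ShortComplex.ShortExact.moduleCat_exact_iff_function_exact]
    rfl
  · apply ShortComplex.exact_of_isZero_X₂
    exact HomologicalComplex.isZero_single_obj_X (ComplexShape.down ℕ) 0 N (n + 1) (by simp)

theorem chain_quasiIsoAt_zero_iff (N' : ChainComplex (ModuleCat.{u} R) ℕ) (N : ModuleCat.{u} R)
    (ε : N' ⟶ (ChainComplex.single₀ _).obj N) :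
    QuasiIsoAt ε 0 ↔
      Function.Exact (N'.d 1 0).hom (ε.f 0).hom ∧ Function.Surjective (ε.f 0).hom := by
  rw [ChainComplex.quasiIsoAt₀_iff, ShortComplex.quasiIso_iff_of_zeros']
  · rw [ShortComplex.ShortExact.moduleCat_exact_iff_function_exact, ModuleCat.epi_iff_surjective]
    rfl
  · simp <;> rfl
  · simp <;> rfl
  · simp <;> rfl

end qi

end Groth.Agent.Lib.Helper5.PTRes
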