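import Mathlib
import Groth.Agent.Lib.Helper5.PTRes.A

set_option autoImplicit false
universe u

open CategoryTheory LocCoh

namespace Groth.Agent.Lib.Helper5.PTRes

section cover
variable {R : Type u} [CommRing R] (I : Ideal R) (M : Type u) [AddCommGroup M] [Module R M]

open Classical in
/-- the exponent killing `m` (or `0`). -/
noncomputable def expo (m : M) : ℕ :=
  if h : ∃ n : ℕ, ∀ a ∈ I ^ n, a • m = 0 then Classical.choose h else 0

/-- the covering module. -/
abbrev Cov : Type u := DirectSum M (fun m => R ⧸ I ^ expo I M m)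

open Classical in
/-- the component maps. -/
noncomputable def comp (m : M) : (R ⧸ I ^ expo I M m) →ₗ[R] M :=
  if h : I ^ expo I M m ≤ LinearMap.ker (LinearMap.toSpanSingleton R M m) then
    Submodule.liftQ (I ^ expo I M m) (LinearMap.toSpanSingleton R M m) h
  else 0

open Classical in
/-- the covering map. -/
noncomputable def covπ : Cov I M →ₗ[R] M := DirectSum.toModule R M M (comp I M)

variable {M} in
theorem covπ_surjective (hM : IsPowerTorsion I M) : Function.Surjective (covπ I M) := by
  classical
  intro m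
  have h1 : ∃ n : ℕ, ∀ a ∈ I ^ n, a • m = 0 := hM m
  have h2 : ∀ a ∈ I ^ expo I M m, a • m = 0 := by
    unfold expo
    rw [dif_pos h1]
    exact Classical.choose_spec h1
  have h3 : I ^ expo I M m ≤ LinearMap.ker (LinearMap.toSpanSingleton R M m) := by
    intro a ha
    rw [LinearMap.mem_ker, LinearMap.toSpanSingleton_apply]
    exact h2 a ha
  refine ⟨DirectSum.lof R M (fun m => R ⧸ I ^ expo I M m) m (Submodule.Quotient.mk 1), ?_⟩
  unfold covπ
  rw [DirectSum.toModule_lof]
  unfold comp
  rw [dif_pos h3, Submodule.liftQ_apply, LinearMap.toSpanSingleton_apply, one_smul]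

theorem isPowerTorsion_directSum {ι : Type u} (n : ι → ℕ) :
    IsPowerTorsion I (DirectSum ι (fun j => R ⧸ I ^ n j)) := by
  classical
  intro x
  induction x using DirectSum.induction_on with
  | zero => exact ⟨0, fun a _ => smul_zero a⟩
  | of j y =>
    refine ⟨n j, fun a ha => ?_⟩
    obtain ⟨r, rfl⟩ := Submodule.Quotient.mk_surjective _ y
    have : a • (Submodule.Quotient.mk r : R ⧸ I ^ n j) = 0 := by
      rw [← Submodule.Quotient.mk_smul, Submodule.Quotient.mk_eq_zero, smul_eq_mul]
      exact Ideal.mul_mem_right _ _ ha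
    rw [← DirectSum.lof_eq_of R, ← map_smul, this, map_zero]
  | add x y hx hy =>
    obtain ⟨n1, h1⟩ := hx
    obtain ⟨n2, h2⟩ := hy
    refine ⟨n1 + n2, fun a ha => ?_⟩
    rw [smul_add, h1 a (Ideal.pow_le_pow_right (Nat.le_add_right n1 n2) ha),
      h2 a (Ideal.pow_le_pow_right (Nat.le_add_left n2 n1) ha), add_zero]

variable {M} in
theorem isPowerTorsion_submodule (hM : IsPowerTorsion I M) (N : Submodule R M) :
    IsPowerTorsion I N := by
  intro x
  obtain ⟨n, hn⟩ := hM x
  refine ⟨n, fun a ha => Subtype.ext ?_⟩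
  rw [Submodule.coe_smul, hn a ha]
  rfl

end cover

end Groth.Agent.Lib.Helper5.PTRes
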