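import Mathlib
import Groth.Agent.Lib.Helper5.PTRes.B

set_option autoImplicit false
universe u

open CategoryTheory LocCoh

namespace Groth.Agent.Lib.Helper5.PTRes

variable {R : Type u} [CommRing R] (I : Ideal R)

/-- the step of the resolution. -/
noncomputable def step {X₀ X₁ : ModuleCat.{u} R} (f : X₁ ⟶ X₀) :
    Σ' (X₂ : ModuleCat.{u} R) (d : X₂ ⟶ X₁), d ≫ f = 0 :=
  ⟨ModuleCat.of R (Cov I (LinearMap.ker f.hom)),
   ModuleCat.ofHom ((LinearMap.ker f.hom).subtype ∘ₗ covπ I (LinearMap.ker f.hom)),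
   by
    ext x
    exact (covπ I (LinearMap.ker f.hom) x).2⟩

theorem step_exact {X₀ X₁ : ModuleCat.{u} R} (f : X₁ ⟶ X₀) (hX : IsPowerTorsion I X₁) :
    Function.Exact (step I f).2.1.hom f.hom := by
  intro y
  constructor
  · intro hy
    obtain ⟨x, hx⟩ := covπ_surjective I (isPowerTorsion_submodule I hX (LinearMap.ker f.hom)) ⟨y, hy⟩
    refine ⟨x, ?_⟩
    change ((covπ I (LinearMap.ker f.hom)) x : X₁) = y
    rw [hx]
  · rintro ⟨x, rfl⟩
    exact (covπ I (LinearMap.ker f.hom) x).2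

/-- the property of the terms. -/
def Good (X : ModuleCat.{u} R) : Prop :=
  IsPowerTorsion I X ∧ ∃ (ι : Type u) (n : ι → ℕ),
    Nonempty (X ≅ ModuleCat.of R (DirectSum ι fun j => R ⧸ I ^ n j))

theorem good_cov (M : Type u) [AddCommGroup M] [Module R M] :
    Good I (ModuleCat.of R (Cov I M)) :=
  ⟨isPowerTorsion_directSum I _, M, expo I M, ⟨Iso.refl _⟩⟩

theorem main (M : Type u) [AddCommGroup M] [Module R M] (hM : IsPowerTorsion I M) :
    ∃ (K : ChainComplex (ModuleCat.{u} R) ℕ)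
      (π : K ⟶ (ChainComplex.single₀ (ModuleCat.{u} R)).obj (ModuleCat.of R M)),
      QuasiIso π ∧ ∀ i : ℕ, ∃ (ι : Type u) (n : ι → ℕ),
        Nonempty (K.X i ≅ ModuleCat.of R (DirectSum ι fun j => R ⧸ I ^ n j)) := by
  let X₀ : ModuleCat.{u} R := ModuleCat.of R (Cov I M)
  let π₀ : X₀ ⟶ ModuleCat.of R M := ModuleCat.ofHom (covπ I M)
  let K : ChainComplex (ModuleCat.{u} R) ℕ :=
    ChainComplex.mk' _ (step I π₀).1 (step I π₀).2.1 (fun f => step I f)
  have hd10 : K.d 1 0 = (step I π₀).2.1 := ChainComplex.mk'_d_1_0 _ _ _ _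
  let π : K ⟶ (ChainComplex.single₀ (ModuleCat.{u} R)).obj (ModuleCat.of R M) :=
    (ChainComplex.toSingle₀Equiv _ _).symm ⟨π₀, by rw [hd10]; exact (step I π₀).2.2⟩
  have hπ0 : π.f 0 = π₀ := by simp [π]
  have hgood : ∀ i, Good I (K.X i) :=
    chain_mk'_X_ind _ (step I π₀).1 (step I π₀).2.1 (fun f => step I f)
      (fun X => Good I X) (good_cov I M) (good_cov I _) (fun f => good_cov I _)
  have hPr := chain_mk'_ind _ (step I π₀).1 (step I π₀).2.1 (fun f => step I f)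
    (fun {A B C} (d : A ⟶ B) (f : B ⟶ C) => IsPowerTorsion I B → Function.Exact d.hom f.hom)
    (fun f h => step_exact I f h)
  refine ⟨K, π, ⟨fun n => ?_⟩, fun i => (hgood i).2⟩
  cases n with
  | zero =>
    rw [chain_quasiIsoAt_zero_iff, hπ0, hd10]
    exact ⟨step_exact I π₀ (good_cov I M).1, covπ_surjective I hM⟩
  | succ n =>
    rw [chain_quasiIsoAt_succ_iff]
    exact hPr n (hgood (n + 1)).1

end Groth.Agent.Lib.Helper5.PTRes
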